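import Groth.Agent.TorBridge.KerNat
import Groth.Agent.TorBridge.LES
import Groth.Prelude.Def_DRing2

/-! Dimension shifting for `Tor` through flat modules. -/

set_option backward.isDefEq.respectTransparency false
set_option backward.isDefEq.respectTransparency.types false
set_option linter.style.haveILetI false

universe u

open CategoryTheory Limits TensorProduct

namespace Groth.Agent.TorBridge

variable {R : Type u} [CommRing R]

/-- `Tor_{i+2}(X₃) ≅ Tor_{i+1}(X₁)` when `X₂` is flat. -/
theorem nonempty_tor_succ_iso (S : ShortComplex (ModuleCat.{u} R)) (hS : S.ShortExact) [Module.Flat R S.X₂]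
    (Y : ModuleCat.{u} R) (i : ℕ) :
    Nonempty (((Tor (ModuleCat.{u} R) (i + 2)).obj S.X₃).obj Y ≅
      ((Tor (ModuleCat.{u} R) (i + 1)).obj S.X₁).obj Y) := by
  let Q := projectiveResolution Y
  have hz : ∀ j : ℕ, IsZero ((KerNat.seq S Q).X₂.homology (j + 1)) := fun j =>
    (isZero_tor_succ_of_flat S.X₂ Y j).of_iso (Q.isoLeftDerivedObj (KerNat.ten S.X₂) (j + 1)).symm
  exact ⟨Q.isoLeftDerivedObj (KerNat.ten S.X₃) (i + 2) ≪≫
    (KerNat.seq_shortExact hS Q).δIso (i + 2) (i + 1) rfl (hz (i + 1)) (hz i) ≪≫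
    (Q.isoLeftDerivedObj (KerNat.ten S.X₁) (i + 1)).symm⟩

variable {F : Type u} [AddCommGroup F] [Module R F] [Module.Flat R F] (B : Submodule R F)

/-- The sequence of a submodule. -/
noncomputable abbrev subSC : ShortComplex (ModuleCat.{u} R) :=
  ShortComplex.mk (ModuleCat.ofHom B.subtype) (ModuleCat.ofHom B.mkQ)
    (ModuleCat.hom_ext (LinearMap.ext fun x => (Submodule.Quotient.mk_eq_zero B).2 x.2))

omit [Module.Flat R F] in
theorem shortExact_subSC : (subSC B).ShortExact :=
  { exact := (ShortComplex.ShortExact.moduleCat_exact_iff_function_exact _).2 (LinearMap.exact_subtype_mkQ B)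
    mono_f := (ModuleCat.mono_iff_injective _).2 Subtype.val_injective
    epi_g := (ModuleCat.epi_iff_surjective _).2 (Submodule.mkQ_surjective B) }

/-- `Tor₁` of a quotient of a flat module. -/
theorem nonempty_tor_one_quotient (M : Type u) [AddCommGroup M] [Module R M] :
    Nonempty (LinearMap.ker (B.subtype.rTensor M) ≃ₗ[R] DRing.Tor R 1 (F ⧸ B) M) := by
  haveI : Module.Flat R (subSC B).X₂ := ‹Module.Flat R F›
  let Y : ModuleCat.{u} R := ModuleCat.of R M
  exact ⟨((LinearEquiv.ofInjective (KerNat.θ (shortExact_subSC B) Y).hom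
    (KerNat.θ_injective (shortExact_subSC B) Y)).trans
    (LinearEquiv.ofEq _ (LinearMap.ker (B.subtype.rTensor M))
      (LinearMap.exact_iff.1 (KerNat.θ_range (shortExact_subSC B) Y)).symm)).symm⟩

/-- `Tor₂` of a quotient of a flat module. -/
theorem nonempty_tor_two_quotient (M : Type u) [AddCommGroup M] [Module R M] :
    Nonempty (DRing.Tor R 1 B M ≃ₗ[R] DRing.Tor R 2 (F ⧸ B) M) := by
  haveI : Module.Flat R (subSC B).X₂ := ‹Module.Flat R F›
  exact ⟨(nonempty_tor_succ_iso (subSC B) (shortExact_subSC B) (ModuleCat.of R M) 0).some.toLinearEquiv.symm⟩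

/-- Functoriality in the first variable. -/
theorem nonempty_tor_congr {N N' : Type u} [AddCommGroup N] [Module R N] [AddCommGroup N'] [Module R N']
    (e : N ≃ₗ[R] N') (n : ℕ) (M : Type u) [AddCommGroup M] [Module R M] :
    Nonempty (DRing.Tor R n N M ≃ₗ[R] DRing.Tor R n N' M) :=
  ⟨(((Tor (ModuleCat.{u} R) n).mapIso e.toModuleIso).app (ModuleCat.of R M)).toLinearEquiv⟩

end Groth.Agent.TorBridge
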